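import Mathlib.Algebra.MvPolynomial.Basic
import Mathlib.Algebra.MvPolynomial.Eval
import Mathlib.RingTheory.Localization.Away.Basic
import Mathlib.RingTheory.TensorProduct.Basic
import Mathlib.LinearAlgebra.Matrix.Adjugate
import Mathlib.LinearAlgebra.Matrix.NonsingularInverse
import Mathlib.RingTheory.Flat.Localization
import Mathlib.RingTheory.Flat.FaithfullyFlat.Basic

/-!
# Families of universal invertible matrices

`IsUniv K L n g` : `L` is a `K`-algebra with a family of invertible matrices `g t`, `t : τ`, of sizes `n t`,
universal with this property, i.e. `L` is the coordinate ring of the product of the `GL (n t)` over `K`.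
-/

set_option autoImplicit false

universe u

open TensorProduct

namespace Groth.Agent.ResProp.EF.K103

variable {τ : Type} [Fintype τ] [DecidableEq τ] {n : τ → Type} [∀ t, Fintype (n t)] [∀ t, DecidableEq (n t)]

/-- `L` is the coordinate ring of `∏ GL (n t)` over `K`, with universal matrices `g t`. -/
structure IsUniv (K L : Type u) [CommRing K] [CommRing L] [Algebra K L]
    (g : ∀ t : τ, Matrix (n t) (n t) L) : Prop where
  isUnit : ∀ t, IsUnit (g t).det
  exists_hom : ∀ (T : Type u) [CommRing T] [Algebra K T] (M : ∀ t, Matrix (n t) (n t) T),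
    (∀ t, IsUnit (M t).det) → ∃ φ : L →ₐ[K] T, ∀ t, (g t).map φ = M t
  hom_ext : ∀ (T : Type u) [CommRing T] [Algebra K T] (φ ψ : L →ₐ[K] T),
    (∀ t, (g t).map φ = (g t).map ψ) → φ = ψ

/-- The index type of all matrix entries. -/
abbrev Ix {τ : Type} (n : τ → Type) : Type := Σ t : τ, n t × n t

variable (n) in
/-- The generic matrices. -/
noncomputable def gen (K : Type u) [CommRing K] (t : τ) : Matrix (n t) (n t) (MvPolynomial (Ix n) K) :=
  Matrix.of fun i j => MvPolynomial.X ⟨t, (i, j)⟩

variable (n) in
/-- The product of the generic determinants. -/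
noncomputable def gdet (K : Type u) [CommRing K] : MvPolynomial (Ix n) K :=
  ∏ t, (gen n K t).det

variable (n) in
/-- The model of the coordinate ring. -/
abbrev OG (K : Type u) [CommRing K] : Type u := Localization.Away (gdet n K)

variable (n) in
/-- The universal matrices of the model. -/
noncomputable def ug (K : Type u) [CommRing K] (t : τ) : Matrix (n t) (n t) (OG n K) :=
  (gen n K t).map (algebraMap (MvPolynomial (Ix n) K) (OG n K))

lemma det_map' {n' : Type} [Fintype n'] [DecidableEq n'] {R S : Type*} [CommRing R] [CommRing S]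
    (f : R →+* S) (M : Matrix n' n' R) : (M.map f).det = f M.det := by
  rw [← RingHom.mapMatrix_apply, ← RingHom.map_det]

lemma isUnit_ug (K : Type u) [CommRing K] (t : τ) : IsUnit (ug n K t).det := by
  have h : IsUnit (algebraMap (MvPolynomial (Ix n) K) (OG n K) (gdet n K)) :=
    IsLocalization.Away.algebraMap_isUnit _
  have e : algebraMap (MvPolynomial (Ix n) K) (OG n K) (gdet n K) =
      ∏ t, algebraMap (MvPolynomial (Ix n) K) (OG n K) (gen n K t).det := map_prod _ _ _
  rw [e, IsUnit.prod_iff] at h
  have := h t (Finset.mem_univ t)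
  rwa [← det_map'] at this

lemma isUniv_ug (K : Type u) [CommRing K] : IsUniv K (OG n K) (ug n K) where
  isUnit := isUnit_ug K
  exists_hom T _ _ M hM := by
    classical
    let f : MvPolynomial (Ix n) K →ₐ[K] T := MvPolynomial.aeval fun x => M x.1 x.2.1 x.2.2
    have hf : ∀ t, (gen n K t).map f = M t := by
      intro t; ext i j
      simp [gen, f]
    have hu : IsUnit (f (gdet n K)) := by
      rw [gdet, map_prod, IsUnit.prod_iff]
      intro t _
      have := hM t
      rw [← hf t] at this
      erw [det_map' f.toRingHom] at this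
      exact this
    refine ⟨IsLocalization.liftAlgHom (M := Submonoid.powers (gdet n K)) (f := f) ?_, ?_⟩
    · rintro ⟨y, k, rfl⟩
      rw [map_pow]
      exact hu.pow k
    · intro t
      rw [← hf t]
      ext i j
      simp [ug]
  hom_ext T _ _ φ ψ h := by
    apply AlgHom.coe_ringHom_injective
    apply IsLocalization.ringHom_ext (Submonoid.powers (gdet n K))
    apply MvPolynomial.ringHom_ext
    · intro r
      have h1 := φ.commutes r
      have h2 := ψ.commutes r
      simp only [RingHom.comp_apply]
      rw [← MvPolynomial.algebraMap_eq, ← IsScalarTower.algebraMap_apply K (MvPolynomial (Ix n) K) (OG n K)]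
      exact h1.trans h2.symm
    · rintro ⟨t, i, j⟩
      have := congrFun (congrFun (h t) i) j
      simpa [ug, gen] using this

namespace IsUniv

variable {K L L' : Type u} [CommRing K] [CommRing L] [CommRing L'] [Algebra K L] [Algebra K L']
  {g : ∀ t : τ, Matrix (n t) (n t) L} {g' : ∀ t : τ, Matrix (n t) (n t) L'}

omit [Fintype τ] [DecidableEq τ] in
/-- Two universal families are isomorphic. -/
theorem exists_equiv (h : IsUniv K L g) (h' : IsUniv K L' g') :
    ∃ φ : L ≃ₐ[K] L', ∀ t, (g t).map φ = g' t := by
  obtain ⟨φ, hφ⟩ := h.exists_hom L' g' h'.isUnit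
  obtain ⟨ψ, hψ⟩ := h'.exists_hom L g h.isUnit
  have h1 : ψ.comp φ = AlgHom.id K L := by
    apply h.hom_ext
    intro t
    ext i j
    have a := congrFun (congrFun (hφ t) i) j
    have b := congrFun (congrFun (hψ t) i) j
    simp only [Matrix.map_apply] at a b ⊢
    simp [a, b]
  have h2 : φ.comp ψ = AlgHom.id K L' := by
    apply h'.hom_ext
    intro t
    ext i j
    have a := congrFun (congrFun (hφ t) i) j
    have b := congrFun (congrFun (hψ t) i) j
    simp only [Matrix.map_apply] at a b ⊢
    simp [a, b]
  exact ⟨AlgEquiv.ofAlgHom φ ψ h2 h1, fun t => hφ t⟩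

omit [Fintype τ] [DecidableEq τ] in
/-- Transport along an isomorphism. -/
theorem of_equiv (h : IsUniv K L g) (φ : L ≃ₐ[K] L') (hφ : ∀ t, (g t).map φ = g' t) :
    IsUniv K L' g' where
  isUnit t := by
    rw [← hφ t]
    have := (h.isUnit t).map (φ : L →+* L')
    rw [← det_map'] at this
    exact this
  exists_hom T _ _ M hM := by
    obtain ⟨ψ, hψ⟩ := h.exists_hom T M hM
    refine ⟨ψ.comp (φ.symm : L' →ₐ[K] L), fun t => ?_⟩
    rw [← hψ t, ← hφ t]
    ext i j
    simp
  hom_ext T _ _ a b hab := by
    have := h.hom_ext T (a.comp (φ : L →ₐ[K] L')) (b.comp (φ : L →ₐ[K] L')) (by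
      intro t
      have := hab t
      rw [← hφ t] at this
      ext i j
      have := congrFun (congrFun this i) j
      simpa using this)
    ext x
    have := DFunLike.congr_fun this (φ.symm x)
    simpa using this

end IsUniv

end Groth.Agent.ResProp.EF.K103
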